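import Mathlib

/-!
Rank sequences of the powers of a skew-adjoint nilpotent map restricted to invariant subspaces: they give the
multiset of Jordan block sizes without needing a Jordan normal form.
-/
set_option autoImplicit false

namespace Cfsg.Agent.Lib.OrthUnipotent

/-- `∑ (e - j)₊` over the parts `e` of `μ`: the rank of the j-th power of a nilpotent map of Jordan type `μ`. -/
def tailRank (μ : Multiset ℕ) (j : ℕ) : ℕ := (μ.map (fun e => e - j)).sum

lemma tailRank_zero_right (μ : Multiset ℕ) : tailRank μ 0 = μ.sum := by simp [tailRank]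

lemma tailRank_add (μ ν : Multiset ℕ) (j : ℕ) : tailRank (μ + ν) j = tailRank μ j + tailRank ν j := by
  simp [tailRank]

lemma tailRank_cons (e : ℕ) (μ : Multiset ℕ) (j : ℕ) : tailRank (e ::ₘ μ) j = (e - j) + tailRank μ j := by
  simp [tailRank]

lemma tailRank_eq_zero (μ : Multiset ℕ) (j : ℕ) (h : ∀ e ∈ μ, e ≤ j) : tailRank μ j = 0 := by
  induction μ using Multiset.induction with
  | empty => simp [tailRank]
  | cons a s ih =>
    rw [tailRank_cons, ih (fun e he => h e (Multiset.mem_cons_of_mem he))]
    have := h a (Multiset.mem_cons_self a s)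
    omega

lemma tailRank_second_diff (μ : Multiset ℕ) (e : ℕ) :
    tailRank μ e + tailRank μ (e + 2) = 2 * tailRank μ (e + 1) + μ.count (e + 1) := by
  induction μ using Multiset.induction with
  | empty => simp [tailRank]
  | cons a s ih =>
    rw [tailRank_cons, tailRank_cons, tailRank_cons, Multiset.count_cons]
    split_ifs with h
    · omega
    · omega

section Ranks

variable {F : Type*} [Field F] {V : Type*} [AddCommGroup V] [Module F V]

/-- dimension of the image of `W` under the j-th power of `L`. -/
noncomputable def imDim (L : Module.End F V) (W : Submodule F V) (j : ℕ) : ℕ :=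
  Module.finrank F (W.map (L ^ j))

lemma imDim_zero (L : Module.End F V) (W : Submodule F V) : imDim L W 0 = Module.finrank F W := by
  unfold imDim
  rw [pow_zero, Module.End.one_eq_id, Submodule.map_id]

lemma imDim_top (L : Module.End F V) (j : ℕ) :
    imDim L ⊤ j = Module.finrank F (LinearMap.range (L ^ j)) := by
  unfold imDim
  rw [Submodule.map_top]

lemma map_pow_le (L : Module.End F V) (W : Submodule F V) (hW : W.map L ≤ W) (j : ℕ) :
    W.map (L ^ j) ≤ W := by
  induction j with
  | zero => simp [Module.End.one_eq_id, Submodule.map_id]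
  | succ j ih =>
    rw [pow_succ', Module.End.mul_eq_comp, Submodule.map_comp]
    exact le_trans (Submodule.map_mono ih) hW

variable [FiniteDimensional F V]

lemma imDim_step (L : Module.End F V) (W : Submodule F V) (j : ℕ) :
    imDim L W j = imDim L W (j + 1) + Module.finrank F (W.map (L ^ j) ⊓ LinearMap.ker L : Submodule F V) := by
  set S := W.map (L ^ j) with hS
  have h := LinearMap.finrank_range_add_finrank_ker (L.comp S.subtype)
  rw [LinearMap.range_comp, Submodule.range_subtype, LinearMap.ker_comp,
    ← Submodule.finrank_map_subtype_eq S (Submodule.comap S.subtype (LinearMap.ker L)),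
    Submodule.map_comap_subtype] at h
  have h2 : S.map L = W.map (L ^ (j + 1)) := by
    rw [hS, ← Submodule.map_comp, ← Module.End.mul_eq_comp, ← pow_succ']
  rw [h2] at h
  exact h.symm

lemma imDim_convex (L : Module.End F V) (W : Submodule F V) (hW : W.map L ≤ W) (j : ℕ) :
    2 * imDim L W (j + 1) ≤ imDim L W j + imDim L W (j + 2) := by
  have h1 := imDim_step L W j
  have h2 := imDim_step L W (j + 1)
  simp only [show j + 1 + 1 = j + 2 from rfl] at h2
  have h3 : W.map (L ^ (j + 1)) ≤ W.map (L ^ j) := by
    rw [pow_succ, Module.End.mul_eq_comp, Submodule.map_comp]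
    exact Submodule.map_mono hW
  have h4 := Submodule.finrank_mono (inf_le_inf_right (LinearMap.ker L) h3)
  omega

lemma imDim_add (L : Module.End F V) (W U : Submodule F V) (hW : W.map L ≤ W) (hU : U.map L ≤ U)
    (hWU : IsCompl W U) (j : ℕ) : imDim L ⊤ j = imDim L W j + imDim L U j := by
  have h := Submodule.finrank_sup_add_finrank_inf_eq (W.map (L ^ j)) (U.map (L ^ j))
  have h1 : W.map (L ^ j) ⊓ U.map (L ^ j) = ⊥ := by
    rw [eq_bot_iff, ← hWU.inf_eq_bot]
    exact inf_le_inf (map_pow_le L W hW j) (map_pow_le L U hU j)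
  rw [← Submodule.map_sup, hWU.sup_eq_top, h1, finrank_bot, add_zero] at h
  exact h

/-- A non-degenerate alternating form lives in even dimension (characteristic not two). -/
lemma even_finrank_of_alternating {X : Type*} [AddCommGroup X] [Module F X] [FiniteDimensional F X]
    (g : LinearMap.BilinForm F X) (h2 : (2 : F) ≠ 0) (halt : ∀ u, g u u = 0)
    (hnd : ∀ u, (∀ v, g u v = 0) → u = 0) : Even (Module.finrank F X) := by
  classical
  by_contra hodd
  rw [Nat.not_even_iff_odd] at hodd
  let b := Module.finBasis F X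
  let M := LinearMap.BilinForm.toMatrix b g
  have hsk : M.transpose = -M := by
    ext i j
    have h := halt (b i + b j)
    simp only [map_add, LinearMap.add_apply, halt, zero_add, add_zero] at h
    simp only [M, Matrix.transpose_apply, Matrix.neg_apply, LinearMap.BilinForm.toMatrix_apply]
    linear_combination h
  have hdet : M.det = 0 := by
    have h := Matrix.det_transpose M
    rw [hsk, Matrix.det_neg, Fintype.card_fin, hodd.neg_one_pow] at h
    have h' : (2 : F) * M.det = 0 := by linear_combination -h
    exact (mul_eq_zero.mp h').resolve_left h2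
  obtain ⟨v, hv0, hv⟩ := Matrix.exists_vecMul_eq_zero_iff.mpr hdet
  apply hv0
  have hz : ∑ i, v i • b i = 0 := by
    refine hnd _ (fun w => ?_)
    have : g (∑ i, v i • b i) = 0 := by
      refine b.ext (fun j => ?_)
      have := congrFun hv j
      simpa [Matrix.vecMul, dotProduct, M, LinearMap.BilinForm.toMatrix_apply, map_sum,
        LinearMap.sum_apply] using this
    rw [this, LinearMap.zero_apply]
  funext i
  exact (Fintype.linearIndependent_iff.mp b.linearIndependent) v hz i

lemma even_imDim (B : LinearMap.BilinForm F V) (hsymm : ∀ u v, B u v = B v u) (h2 : (2 : F) ≠ 0)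
    (L : Module.End F V) (hL : ∀ u v, B (L u) v + B u (L v) = 0)
    (W : Submodule F V) (hW : W.map L ≤ W) (hnd : ∀ w ∈ W, (∀ x ∈ W, B w x = 0) → w = 0)
    (j : ℕ) (hj : Odd j) : Even (imDim L W j) := by
  have hskew : ∀ (i : ℕ) (u v : V), B ((L ^ i) u) v = (-1) ^ i * B u ((L ^ i) v) := by
    intro i
    induction i with
    | zero => simp
    | succ i ih =>
      intro u v
      have h1 : (L ^ (i + 1)) u = (L ^ i) (L u) := by rw [pow_succ, Module.End.mul_apply]
      have h3 : (L ^ (i + 1)) v = L ((L ^ i) v) := by rw [pow_succ', Module.End.mul_apply]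
      rw [h1, h3, ih, pow_succ]
      linear_combination ((-1 : F) ^ i) * (hL u ((L ^ i) v))
  let K : Submodule F W := Submodule.comap W.subtype (LinearMap.ker (L ^ j))
  obtain ⟨C, hC⟩ := Submodule.exists_isCompl K
  let f : C →ₗ[F] V := (L ^ j) ∘ₗ W.subtype ∘ₗ C.subtype
  have hf : Function.Injective f := by
    rw [← LinearMap.ker_eq_bot, eq_bot_iff]
    intro c hc
    have h1 : (c : W) ∈ K := hc
    have h2 : (c : W) ∈ K ⊓ C := ⟨h1, c.2⟩
    rw [hC.inf_eq_bot, Submodule.mem_bot] at h2
    exact (Submodule.mem_bot _).mpr (Subtype.ext h2)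
  have hr : LinearMap.range f = W.map (L ^ j) := by
    apply le_antisymm
    · rintro _ ⟨c, rfl⟩
      exact ⟨_, ((c : W)).2, rfl⟩
    · rintro _ ⟨w, hw, rfl⟩
      have htop : (⟨w, hw⟩ : W) ∈ K ⊔ C := hC.sup_eq_top ▸ Submodule.mem_top
      obtain ⟨k, hk, c, hc, hkc⟩ := Submodule.mem_sup.mp htop
      refine ⟨⟨c, hc⟩, ?_⟩
      have hk' : (L ^ j) (k : V) = 0 := hk
      have : (k : V) + (c : V) = w := congrArg Subtype.val hkc
      rw [← this, map_add, hk', zero_add]
      rfl
  have hdim : imDim L W j = Module.finrank F C := by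
    rw [imDim, ← hr, LinearMap.finrank_range_of_inj hf]
  let g : LinearMap.BilinForm F C := LinearMap.compl₁₂ B f (W.subtype ∘ₗ C.subtype)
  rw [hdim]
  refine even_finrank_of_alternating g h2 (fun c => ?_) (fun c hc => ?_)
  · change B ((L ^ j) ((c : W) : V)) ((c : W) : V) = 0
    have h := hskew j ((c : W) : V) ((c : W) : V)
    rw [hj.neg_one_pow, hsymm ((c : W) : V)] at h
    have h' : (2 : F) * B ((L ^ j) ((c : W) : V)) ((c : W) : V) = 0 := by linear_combination h
    exact (mul_eq_zero.mp h').resolve_left h2
  · apply hf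
    rw [map_zero]
    have hmem : f c ∈ W := map_pow_le L W hW j ⟨_, ((c : W)).2, rfl⟩
    refine hnd _ hmem (fun x hx => ?_)
    have htop : (⟨x, hx⟩ : W) ∈ K ⊔ C := hC.sup_eq_top ▸ Submodule.mem_top
    obtain ⟨k, hk, c', hc', hkc⟩ := Submodule.mem_sup.mp htop
    have hk' : (L ^ j) (k : V) = 0 := hk
    have hx' : (k : V) + (c' : V) = x := congrArg Subtype.val hkc
    have h1 : B (f c) (c' : V) = 0 := hc ⟨c', hc'⟩
    have h2' : B (f c) (k : V) = 0 := by
      change B ((L ^ j) ((c : W) : V)) (k : V) = 0
      rw [hskew, hk', map_zero, mul_zero]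
    rw [← hx', map_add, h1, h2', add_zero]

lemma sum_second_diff (a c : ℕ → ℕ) (hc : ∀ e, c (e + 1) + 2 * a (e + 1) = a e + a (e + 2)) (N : ℕ) :
    (∑ i ∈ Finset.range N, (i + 1) * c (i + 1)) + (N + 1) * a N = a 0 + N * a (N + 1) := by
  induction N with
  | zero => simp
  | succ N ih =>
    rw [Finset.sum_range_succ]
    have h := hc N
    zify at ih h ⊢
    linear_combination ih + ((N : ℤ) + 1) * h

/-- The partition attached to an invariant non-degenerate subspace of a space with a skew nilpotent of type `μ`. -/
theorem exists_subPartition (B : LinearMap.BilinForm F V) (hsymm : ∀ u v, B u v = B v u) (h2 : (2 : F) ≠ 0)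
    (L : Module.End F V) (hL : ∀ u v, B (L u) v + B u (L v) = 0) (μ : Multiset ℕ)
    (hr : ∀ j, Module.finrank F (LinearMap.range (L ^ j)) = tailRank μ j)
    (W : Submodule F V) (hW : W.map L ≤ W) (hnd : ∀ w ∈ W, (∀ x ∈ W, B w x = 0) → w = 0) :
    ∃ ν : Multiset ℕ, ν ≤ μ ∧ ν.sum = Module.finrank F W ∧ (∀ e : ℕ, Even e → Even (ν.count e)) ∧
      (∀ e ∈ ν, 0 < e) ∧ ν.count 1 + 2 * imDim L W 1 = Module.finrank F W + imDim L W 2 := by
  classical
  set U := B.orthogonal W with hUdef
  have hU : U.map L ≤ U := by
    rintro _ ⟨u, hu, rfl⟩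
    rw [hUdef, LinearMap.BilinForm.mem_orthogonal_iff]
    intro w hw
    have h1 := hL w u
    have h2 : B (L w) u = 0 := hu (L w) (hW ⟨w, hw, rfl⟩)
    rw [h2, zero_add] at h1
    exact h1
  have hrefl : B.IsRefl := fun u v h => by rw [hsymm]; exact h
  have hcompl : IsCompl W U := by
    rw [hUdef, LinearMap.BilinForm.isCompl_orthogonal_iff_disjoint hrefl, disjoint_iff, eq_bot_iff]
    rintro w ⟨hw, hw'⟩
    exact (Submodule.mem_bot _).mpr (hnd w hw (fun x hx => by rw [hsymm]; exact hw' x hx))
  have hadd : ∀ j, tailRank μ j = imDim L W j + imDim L U j := fun j => by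
    rw [← hr j, ← imDim_top, imDim_add L W U hW hU hcompl]
  set a := imDim L W with ha
  let c : ℕ → ℕ := fun e => if e = 0 then 0 else a (e - 1) + a (e + 1) - 2 * a e
  have hc : ∀ e, c (e + 1) + 2 * a (e + 1) = a e + a (e + 2) := by
    intro e
    have := imDim_convex L W hW e
    simp only [c, Nat.succ_ne_zero, if_false, Nat.add_sub_cancel, show e + 1 + 1 = e + 2 from rfl, ha] at this ⊢
    omega
  have hcle : ∀ e, c (e + 1) ≤ μ.count (e + 1) := by
    intro e
    have h1 := tailRank_second_diff μ e
    have h2 := imDim_convex L U hU e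
    have h3 := hc e
    have := hadd e
    have := hadd (e + 1)
    have := hadd (e + 2)
    omega
  set N := μ.sum with hN
  have hmemle : ∀ e ∈ μ, e ≤ N := fun e he => Multiset.le_sum_of_mem he
  let ν : Multiset ℕ := ∑ i ∈ Finset.range N, Multiset.replicate (c (i + 1)) (i + 1)
  have hcount : ∀ e, ν.count e = c e := by
    intro e
    simp only [ν, Multiset.count_sum', Multiset.count_replicate]
    rcases Nat.eq_zero_or_pos e with he | he
    · subst he
      simp [c]
    · obtain ⟨e', rfl⟩ : ∃ e', e = e' + 1 := ⟨e - 1, by omega⟩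
      by_cases hlt : e' < N
      · rw [Finset.sum_eq_single e']
        · simp
        · intro b _ hb
          rw [if_neg]
          omega
        · intro h
          exact absurd (Finset.mem_range.mpr hlt) h
      · have h0 : μ.count (e' + 1) = 0 := by
          rw [Multiset.count_eq_zero]
          intro h
          have := hmemle _ h
          omega
        have := hcle e'
        rw [Finset.sum_eq_zero]
        · omega
        · intro b hb
          rw [if_neg]
          have := Finset.mem_range.mp hb
          omega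
  refine ⟨ν, ?_, ?_, ?_, ?_, ?_⟩
  · rw [Multiset.le_iff_count]
    intro e
    rw [hcount]
    rcases Nat.eq_zero_or_pos e with he | he
    · subst he
      simp [c]
    · obtain ⟨e', rfl⟩ : ∃ e', e = e' + 1 := ⟨e - 1, by omega⟩
      exact hcle e'
  · have hsum : ν.sum = ∑ i ∈ Finset.range N, (i + 1) * c (i + 1) := by
      simp only [ν]
      rw [show (∑ i ∈ Finset.range N, Multiset.replicate (c (i + 1)) (i + 1)).sum =
        Multiset.sumAddMonoidHom (∑ i ∈ Finset.range N, Multiset.replicate (c (i + 1)) (i + 1)) from rfl, map_sum]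
      refine Finset.sum_congr rfl (fun i _ => ?_)
      simp [Multiset.sum_replicate, mul_comm]
    have h := sum_second_diff a c hc N
    have hz : ∀ j, N ≤ j → a j = 0 := by
      intro j hj
      have h1 := hadd j
      have h2 := tailRank_eq_zero μ j (fun e he => le_trans (hmemle e he) hj)
      omega
    rw [hz N le_rfl, hz (N + 1) (by omega)] at h
    rw [hsum, ← imDim_zero L W]
    simpa [ha] using h
  · intro e he
    rw [hcount]
    rcases Nat.eq_zero_or_pos e with he0 | he0
    · subst he0
      simp [c]
    · obtain ⟨e', rfl⟩ : ∃ e', e = e' + 1 := ⟨e - 1, by omega⟩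
      have hodd : Odd e' := by
        rcases Nat.even_or_odd e' with h | h
        · exact absurd he (Nat.not_even_iff_odd.mpr h.add_one)
        · exact h
      have he2 : Odd (e' + 2) := by
        obtain ⟨k, hk⟩ := hodd
        exact ⟨k + 1, by omega⟩
      obtain ⟨k1, hk1⟩ := even_imDim B hsymm h2 L hL W hW hnd e' hodd
      obtain ⟨k2, hk2⟩ := even_imDim B hsymm h2 L hL W hW hnd (e' + 2) he2
      have := hc e'
      refine ⟨k1 + k2 - a (e' + 1), ?_⟩
      simp only [← ha] at hk1 hk2
      omega
  · intro e he
    rcases Nat.eq_zero_or_pos e with he0 | he0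
    · exfalso
      subst he0
      rw [← Multiset.count_pos, hcount] at he
      simp [c] at he
    · exact he0
  · rw [hcount, ← imDim_zero L W]
    exact hc 0

end Ranks

end Cfsg.Agent.Lib.OrthUnipotent
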