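import Mathlib
import Cfsg.Agent.Lib.OrthUnipotent.Ranks

/-!
Every partition in which the even parts have even multiplicity is the type of a skew-adjoint nilpotent map of an
orthogonal space, together with an isometric involution reversing it.
-/
set_option autoImplicit false

namespace Cfsg.Agent.Lib.OrthUnipotent

open scoped BigOperators

variable {F : Type*} [Field F]

/-- Coordinates `(a, b, z)` of the model orthogonal space. -/
abbrev StdSpace (F : Type*) (M s : ℕ) := (Fin M → F) × (Fin M → F) × (Fin s → F)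

/-- `a·b' + b·a' + ∑ 2 αᵢ zᵢ zᵢ'`. -/
def stdForm (M : ℕ) {s : ℕ} (α : Fin s → F) : LinearMap.BilinForm F (StdSpace F M s) :=
  LinearMap.mk₂ F
    (fun u v => (∑ i, u.1 i * v.2.1 i) + (∑ i, u.2.1 i * v.1 i) + ∑ i, 2 * α i * u.2.2 i * v.2.2 i)
    (by intros; simp only [Prod.fst_add, Prod.snd_add, Pi.add_apply, add_mul, mul_add,
      Finset.sum_add_distrib]; ring)
    (by intros; simp only [Prod.smul_fst, Prod.smul_snd, Pi.smul_apply, smul_eq_mul, mul_add, Finset.mul_sum]
        congr 1; congr 1 <;> (refine Finset.sum_congr rfl (fun i _ => ?_); ring)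
        refine Finset.sum_congr rfl (fun i _ => ?_); ring)
    (by intros; simp only [Prod.fst_add, Prod.snd_add, Pi.add_apply, add_mul, mul_add,
      Finset.sum_add_distrib]; ring)
    (by intros; simp only [Prod.smul_fst, Prod.smul_snd, Pi.smul_apply, smul_eq_mul, mul_add, Finset.mul_sum]
        congr 1; congr 1 <;> (refine Finset.sum_congr rfl (fun i _ => ?_); ring)
        refine Finset.sum_congr rfl (fun i _ => ?_); ring)

lemma stdForm_apply {M s : ℕ} (α : Fin s → F) (u v : StdSpace F M s) :
    stdForm M α u v =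
      (∑ i, u.1 i * v.2.1 i) + (∑ i, u.2.1 i * v.1 i) + ∑ i, 2 * α i * u.2.2 i * v.2.2 i := rfl

lemma stdForm_symm {M s : ℕ} (α : Fin s → F) (u v : StdSpace F M s) :
    stdForm M α u v = stdForm M α v u := by
  rw [stdForm_apply, stdForm_apply, add_comm (∑ i, u.1 i * v.2.1 i)]
  congr 1
  · congr 1 <;> exact Finset.sum_congr rfl (fun i _ => mul_comm _ _)
  · exact Finset.sum_congr rfl (fun i _ => by ring)

section Abstract

variable {V V' : Type*} [AddCommGroup V] [Module F V] [AddCommGroup V'] [Module F V']

/-- There is a skew nilpotent map of type `μ` reversed by an isometric involution. -/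
def IsRealised (B : LinearMap.BilinForm F V) (μ : Multiset ℕ) : Prop :=
  ∃ L S : Module.End F V, (∀ u v, B (L u) v + B u (L v) = 0) ∧ (∀ u v, B (S u) (S v) = B u v) ∧
    S * S = 1 ∧ S * L = -(L * S) ∧ ∀ j, Module.finrank F (LinearMap.range (L ^ j)) = tailRank μ j

lemma conjAlgEquiv_pow (e : V ≃ₗ[F] V') (L : Module.End F V) (j : ℕ) :
    e.conj (L ^ j) = (e.conj L) ^ j := by
  induction j with
  | zero => ext; simp [LinearEquiv.conj_apply]
  | succ j ih =>
    rw [pow_succ, pow_succ, ← ih]
    ext
    simp [LinearEquiv.conj_apply]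

lemma IsRealised.transport {B : LinearMap.BilinForm F V} {B' : LinearMap.BilinForm F V'} {μ : Multiset ℕ}
    (h : IsRealised B μ) (e : V ≃ₗ[F] V') (he : ∀ u v, B' (e u) (e v) = B u v) : IsRealised B' μ := by
  obtain ⟨L, S, hL, hS, hSS, hSL, hr⟩ := h
  refine ⟨e.conj L, e.conj S, fun u v => ?_, fun u v => ?_, ?_, ?_, fun j => ?_⟩
  · obtain ⟨u, rfl⟩ := e.surjective u
    obtain ⟨v, rfl⟩ := e.surjective v
    simp [LinearEquiv.conj_apply, he, hL]
  · obtain ⟨u, rfl⟩ := e.surjective u
    obtain ⟨v, rfl⟩ := e.surjective v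
    simp [LinearEquiv.conj_apply, he, hS]
  · ext v
    have := LinearMap.congr_fun hSS (e.symm v)
    simp only [Module.End.mul_apply, Module.End.one_apply] at this
    simp [LinearEquiv.conj_apply, this]
  · ext v
    have := LinearMap.congr_fun hSL (e.symm v)
    simp only [Module.End.mul_apply, LinearMap.neg_apply] at this
    simp [LinearEquiv.conj_apply, this]
  · rw [← conjAlgEquiv_pow, LinearEquiv.conj_apply, LinearMap.range_comp_of_range_eq_top _
      (LinearEquiv.range _), LinearMap.range_comp, ← hr j]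
    exact (e.submoduleMap _).finrank_eq.symm

lemma prodMap_pow (L : Module.End F V) (L' : Module.End F V') (j : ℕ) :
    (L.prodMap L') ^ j = (L ^ j).prodMap (L' ^ j) := by
  induction j with
  | zero => ext v <;> simp
  | succ j ih =>
    rw [pow_succ, pow_succ, pow_succ, ih]
    ext v <;> simp

variable [FiniteDimensional F V] [FiniteDimensional F V']

lemma finrank_prod_submodule (P : Submodule F V) (Q : Submodule F V') :
    Module.finrank F (P.prod Q) = Module.finrank F P + Module.finrank F Q := by
  rw [← Module.finrank_prod]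
  exact LinearEquiv.finrank_eq
    { toFun := fun x => (⟨x.1.1, x.2.1⟩, ⟨x.1.2, x.2.2⟩)
      map_add' := fun _ _ => rfl
      map_smul' := fun _ _ => rfl
      invFun := fun y => ⟨(y.1.1, y.2.1), y.1.2, y.2.2⟩
      left_inv := fun _ => rfl
      right_inv := fun _ => rfl }

lemma IsRealised.prod {B : LinearMap.BilinForm F V} {B' : LinearMap.BilinForm F V'} {μ ν : Multiset ℕ}
    (h : IsRealised B μ) (h' : IsRealised B' ν) {B'' : LinearMap.BilinForm F (V × V')}
    (hB : ∀ u v, B'' u v = B u.1 v.1 + B' u.2 v.2) : IsRealised B'' (μ + ν) := by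
  obtain ⟨L, S, hL, hS, hSS, hSL, hr⟩ := h
  obtain ⟨L', S', hL', hS', hSS', hSL', hr'⟩ := h'
  refine ⟨L.prodMap L', S.prodMap S', fun u v => ?_, fun u v => ?_, ?_, ?_, fun j => ?_⟩
  · simp only [hB, LinearMap.prodMap_apply]
    linear_combination hL u.1 v.1 + hL' u.2 v.2
  · simp only [hB, LinearMap.prodMap_apply, hS, hS']
  · refine LinearMap.ext (fun v => ?_)
    have h1 := LinearMap.congr_fun hSS v.1
    have h2 := LinearMap.congr_fun hSS' v.2
    simp only [Module.End.mul_apply, Module.End.one_apply] at h1 h2 ⊢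
    simp [LinearMap.prodMap_apply, h1, h2]
  · refine LinearMap.ext (fun v => ?_)
    have h1 := LinearMap.congr_fun hSL v.1
    have h2 := LinearMap.congr_fun hSL' v.2
    simp only [Module.End.mul_apply, LinearMap.neg_apply] at h1 h2 ⊢
    simp [LinearMap.prodMap_apply, h1, h2]
  · rw [prodMap_pow, LinearMap.range_prodMap, tailRank_add, ← hr j, ← hr' j]
    exact finrank_prod_submodule _ _

end Abstract

/-! ### The two basic pieces -/

/-- the shift `(N u) i = u (i+1)`. -/
def shiftMap (F : Type*) [Field F] (e : ℕ) : Module.End F (Fin e → F) where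
  toFun u i := if h : (i : ℕ) + 1 < e then u ⟨(i : ℕ) + 1, h⟩ else 0
  map_add' u v := by
    funext i
    simp only [Pi.add_apply]
    split_ifs <;> simp
  map_smul' c u := by
    funext i
    simp only [Pi.smul_apply, RingHom.id_apply]
    split_ifs <;> simp

/-- the sign map `(D u) i = (-1)^i u i`. -/
def signMap (F : Type*) [Field F] (e : ℕ) : Module.End F (Fin e → F) where
  toFun u i := (-1) ^ (i : ℕ) * u i
  map_add' u v := by funext i; simp [mul_add]
  map_smul' c u := by funext i; simp [mul_left_comm]

/-- the pairing `∑ uᵢ v_{e-1-i}`. -/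
def revPair (F : Type*) [Field F] (e : ℕ) : LinearMap.BilinForm F (Fin e → F) :=
  LinearMap.mk₂ F (fun u v => ∑ i, u i * v (Fin.rev i))
    (by intros; simp only [Pi.add_apply, add_mul, Finset.sum_add_distrib])
    (by intros; simp only [Pi.smul_apply, smul_eq_mul, Finset.mul_sum, mul_assoc])
    (by intros; simp only [Pi.add_apply, mul_add, Finset.sum_add_distrib])
    (by intros; simp only [Pi.smul_apply, smul_eq_mul, Finset.mul_sum, mul_left_comm])

lemma revPair_apply {e : ℕ} (u v : Fin e → F) : revPair F e u v = ∑ i, u i * v (Fin.rev i) := rfl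

lemma revPair_symm {e : ℕ} (u v : Fin e → F) : revPair F e u v = revPair F e v u := by
  rw [revPair_apply, revPair_apply]
  rw [← Equiv.sum_comp Fin.revPerm (fun i => u i * v (Fin.rev i))]
  refine Finset.sum_congr rfl (fun i _ => ?_)
  simp [mul_comm]

lemma revPair_shift {e : ℕ} (u v : Fin e → F) :
    revPair F e (shiftMap F e u) v = revPair F e u (shiftMap F e v) := by
  rcases e with _ | e
  · simp [revPair_apply]
  rw [revPair_apply, revPair_apply]
  rw [Fin.sum_univ_castSucc, Fin.sum_univ_succ (f := fun i => u i * shiftMap F (e + 1) v (Fin.rev i))]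
  have h1 : shiftMap F (e + 1) u (Fin.last e) = 0 := by simp [shiftMap]
  have h2 : shiftMap F (e + 1) v (Fin.rev 0) = 0 := by simp [shiftMap]
  rw [h1, h2, zero_mul, mul_zero, add_zero, zero_add]
  refine Finset.sum_congr rfl (fun i _ => ?_)
  have h3 : shiftMap F (e + 1) u i.castSucc = u i.succ := by
    simp [shiftMap, Fin.succ]
  have h4 : shiftMap F (e + 1) v (Fin.rev i.succ) = v (Fin.rev i.castSucc) := by
    have hi := i.2
    simp only [shiftMap, LinearMap.coe_mk, AddHom.coe_mk, Fin.val_rev, Fin.val_succ]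
    rw [dif_pos (by omega)]
    congr 1
    apply Fin.ext
    simp only [Fin.val_rev, Fin.val_castSucc]
    omega
  rw [h3, h4]

lemma signMap_sq (e : ℕ) : signMap F e * signMap F e = 1 := by
  refine LinearMap.ext (fun u => funext (fun i => ?_))
  simp [signMap, ← mul_assoc, ← mul_pow]

lemma signMap_shiftMap (e : ℕ) : signMap F e * shiftMap F e = -(shiftMap F e * signMap F e) := by
  refine LinearMap.ext (fun u => funext (fun i => ?_))
  simp only [Module.End.mul_apply, LinearMap.neg_apply, Pi.neg_apply, signMap, shiftMap, LinearMap.coe_mk,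
    AddHom.coe_mk]
  split_ifs with h
  · ring
  · simp

lemma revPair_sign {e : ℕ} (he : 0 < e) (u v : Fin e → F) :
    revPair F e (signMap F e u) (signMap F e v) = (-1) ^ (e - 1) * revPair F e u v := by
  rw [revPair_apply, revPair_apply]
  rw [Finset.mul_sum]
  refine Finset.sum_congr rfl (fun i _ => ?_)
  have hi := i.2
  have : (-1 : F) ^ (e - 1) = (-1) ^ (i : ℕ) * (-1) ^ ((Fin.rev i : Fin e) : ℕ) := by
    rw [← pow_add]
    congr 1
    rw [Fin.val_rev]
    omega
  simp only [signMap, LinearMap.coe_mk, AddHom.coe_mk, this]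
  ring

lemma revPair_sign_left {e : ℕ} (he : Odd e) (u v : Fin e → F) :
    revPair F e (signMap F e u) v = revPair F e u (signMap F e v) := by
  have h := revPair_sign (F := F) he.pos u (signMap F e v)
  rw [← Module.End.mul_apply (signMap F e) (signMap F e), signMap_sq, Module.End.one_apply] at h
  obtain ⟨k, rfl⟩ := he
  simpa [Nat.add_sub_cancel, pow_mul] using h

lemma shiftMap_pow_apply {e : ℕ} (j : ℕ) (u : Fin e → F) (i : Fin e) :
    (shiftMap F e ^ j) u i = if h : (i : ℕ) + j < e then u ⟨(i : ℕ) + j, h⟩ else 0 := by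
  induction j generalizing u with
  | zero => simp
  | succ j ih =>
    rw [pow_succ, Module.End.mul_apply, ih]
    by_cases h : (i : ℕ) + (j + 1) < e
    · rw [dif_pos h, dif_pos (show (i : ℕ) + j < e by omega)]
      simp only [shiftMap, LinearMap.coe_mk, AddHom.coe_mk]
      rw [dif_pos (by omega)]
      rfl
    · rw [dif_neg h]
      split_ifs with h'
      · simp only [shiftMap, LinearMap.coe_mk, AddHom.coe_mk]
        rw [dif_neg (by omega)]
      · rfl

lemma finrank_range_shiftMap_pow (e j : ℕ) :
    Module.finrank F (LinearMap.range (shiftMap F e ^ j)) = e - j := by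
  let ext : (Fin (e - j) → F) →ₗ[F] (Fin e → F) :=
    { toFun := fun w i => if h : (i : ℕ) < e - j then w ⟨i, h⟩ else 0
      map_add' := fun u v => by funext i; simp only [Pi.add_apply]; split_ifs <;> simp
      map_smul' := fun c u => by funext i; simp only [Pi.smul_apply, RingHom.id_apply]; split_ifs <;> simp }
  have hinj : Function.Injective ext := by
    intro u v h
    funext i
    have := congrFun h ⟨i, by have := i.2; omega⟩
    simpa [ext, i.2] using this
  have hr : LinearMap.range (shiftMap F e ^ j) = LinearMap.range ext := by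
    apply le_antisymm
    · rintro _ ⟨u, rfl⟩
      refine ⟨fun i => u ⟨(i : ℕ) + j, by have := i.2; omega⟩, funext (fun i => ?_)⟩
      rw [shiftMap_pow_apply]
      by_cases h : (i : ℕ) + j < e
      · rw [dif_pos h]; simp [ext, show (i : ℕ) < e - j by omega]
      · rw [dif_neg h]; simp [ext, show ¬ (i : ℕ) < e - j by omega]
    · rintro _ ⟨w, rfl⟩
      refine ⟨fun i => if h : j ≤ (i : ℕ) then w ⟨(i : ℕ) - j, by have := i.2; omega⟩ else 0,
        funext (fun i => ?_)⟩
      rw [shiftMap_pow_apply]
      by_cases h : (i : ℕ) + j < e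
      · rw [dif_pos h]
        simp [ext, show (i : ℕ) < e - j by omega]
      · rw [dif_neg h]; simp [ext, show ¬ (i : ℕ) < e - j by omega]
  rw [hr, LinearMap.finrank_range_of_inj hinj, Module.finrank_fin_fun]

/-- a pair of equal blocks in a hyperbolic space. -/
lemma isRealised_pair (e : ℕ) (he : 0 < e) :
    IsRealised (stdForm e (![] : Fin 0 → F)) ({e, e} : Multiset ℕ) := by
  let B : LinearMap.BilinForm F ((Fin e → F) × (Fin e → F)) :=
    (revPair F e).compl₁₂ (LinearMap.fst F _ _) (LinearMap.snd F _ _) +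
      (revPair F e).compl₁₂ (LinearMap.snd F _ _) (LinearMap.fst F _ _)
  have hBapp : ∀ u v, B u v = revPair F e u.1 v.2 + revPair F e u.2 v.1 := fun u v => rfl
  have hB : IsRealised B ({e, e} : Multiset ℕ) := by
    refine ⟨(shiftMap F e).prodMap (-shiftMap F e),
      (signMap F e).prodMap (((-1 : F) ^ (e - 1)) • signMap F e), fun u v => ?_, fun u v => ?_, ?_, ?_,
      fun j => ?_⟩
    · simp only [hBapp, LinearMap.prodMap_apply, LinearMap.neg_apply, map_neg, revPair_shift]
      ring
    · simp only [hBapp, LinearMap.prodMap_apply, LinearMap.smul_apply, map_smul, smul_eq_mul,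
        revPair_sign he, ← mul_assoc, ← pow_add, ← two_mul, pow_mul, neg_one_sq, one_pow, one_mul]
    · refine LinearMap.ext (fun v => ?_)
      have h1 := LinearMap.congr_fun (signMap_sq (F := F) e) v.1
      have h2 := LinearMap.congr_fun (signMap_sq (F := F) e) v.2
      simp only [Module.End.mul_apply, Module.End.one_apply] at h1 h2 ⊢
      simp [LinearMap.prodMap_apply, h1, h2, map_smul, smul_smul, ← pow_add, ← two_mul, pow_mul]
    · refine LinearMap.ext (fun v => ?_)
      have h1 := LinearMap.congr_fun (signMap_shiftMap (F := F) e) v.1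
      have h2 := LinearMap.congr_fun (signMap_shiftMap (F := F) e) v.2
      simp only [Module.End.mul_apply, LinearMap.neg_apply] at h1 h2 ⊢
      simp [LinearMap.prodMap_apply, h1, h2, map_smul, map_neg]
    · rw [prodMap_pow, LinearMap.range_prodMap]
      have h : LinearMap.range ((-shiftMap F e) ^ j) = LinearMap.range (shiftMap F e ^ j) := by
        rcases Nat.even_or_odd j with h | h
        · rw [Even.neg_pow (α := Module.End F (Fin e → F)) h]
        · rw [Odd.neg_pow (α := Module.End F (Fin e → F)) h, LinearMap.range_neg]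
      rw [h, finrank_prod_submodule, finrank_range_shiftMap_pow]
      simp [tailRank]
  let Φ : ((Fin e → F) × (Fin e → F)) ≃ₗ[F] StdSpace F e 0 :=
    { toFun := fun u => (u.1, fun i => u.2 (Fin.rev i), 0)
      map_add' := fun u v => by
        refine Prod.ext rfl (Prod.ext rfl ?_)
        funext i; exact i.elim0
      map_smul' := fun c u => by
        refine Prod.ext rfl (Prod.ext rfl ?_)
        funext i; exact i.elim0
      invFun := fun w => (w.1, fun i => w.2.1 (Fin.rev i))
      left_inv := fun u => by simp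
      right_inv := fun w => by
        refine Prod.ext rfl (Prod.ext ?_ ?_)
        · funext i; simp
        · funext i; exact i.elim0 }
  refine hB.transport Φ (fun u v => ?_)
  simp only [Φ, LinearEquiv.coe_mk, LinearMap.coe_mk, AddHom.coe_mk, stdForm_apply, hBapp,
    Finset.univ_eq_empty, Finset.sum_empty, add_zero]
  rw [revPair_symm u.2 v.1, revPair_apply, revPair_apply]
  congr 1
  exact Finset.sum_congr rfl (fun i _ => mul_comm _ _)

/-- one block of odd size `2k+1`. -/
lemma isRealised_single (k : ℕ) (α : F) (hα : α ≠ 0) (h2 : (2 : F) ≠ 0) :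
    IsRealised (stdForm k ![α]) ({k + 1 + k} : Multiset ℕ) := by
  set e := k + 1 + k with he
  have hodd : Odd e := ⟨k, by omega⟩
  set c : F := 2 * α * (-1) ^ k with hc
  let B : LinearMap.BilinForm F (Fin e → F) := c • (revPair F e).compl₁₂ (signMap F e) LinearMap.id
  have hBapp : ∀ u v, B u v = c * revPair F e (signMap F e u) v := fun u v => rfl
  have hB : IsRealised B ({e} : Multiset ℕ) := by
    refine ⟨shiftMap F e, signMap F e, fun u v => ?_, fun u v => ?_, signMap_sq e, signMap_shiftMap e,
      fun j => ?_⟩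
    · have h := LinearMap.congr_fun (signMap_shiftMap (F := F) e) u
      simp only [Module.End.mul_apply, LinearMap.neg_apply] at h
      simp only [hBapp, h, ← revPair_shift, map_neg, LinearMap.neg_apply]
      ring
    · simp only [hBapp]
      rw [← Module.End.mul_apply (signMap F e) (signMap F e) u, signMap_sq, Module.End.one_apply,
        revPair_sign_left hodd u v]
    · rw [finrank_range_shiftMap_pow]
      simp [tailRank]
  let f : (Fin e → F) →ₗ[F] StdSpace F k 1 :=
    { toFun := fun u => (fun i => u (Fin.castAdd k (Fin.castAdd 1 i)),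
        fun i => c * (-1) ^ (i : ℕ) * u (Fin.natAdd (k + 1) (Fin.rev i)),
        fun i => u (Fin.castAdd k (Fin.natAdd k i)))
      map_add' := fun u v => by
        refine Prod.ext rfl (Prod.ext ?_ rfl)
        funext i
        simp [mul_add]
      map_smul' := fun d u => by
        refine Prod.ext rfl (Prod.ext ?_ rfl)
        funext i
        simp only [Pi.smul_apply, Prod.smul_fst, Prod.smul_snd, smul_eq_mul, RingHom.id_apply]
        ring }
  have hc0 : c ≠ 0 := by
    rw [hc]
    exact mul_ne_zero (mul_ne_zero h2 hα) (pow_ne_zero _ (neg_ne_zero.mpr one_ne_zero))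
  have hf : Function.Injective f := by
    rw [← LinearMap.ker_eq_bot, eq_bot_iff]
    intro u hu
    rw [Submodule.mem_bot]
    rw [LinearMap.mem_ker] at hu
    funext i
    refine Fin.addCases (fun i => ?_) (fun i => ?_) i
    · refine Fin.addCases (fun i => ?_) (fun i => ?_) i
      · exact congrFun (congrArg Prod.fst hu) i
      · exact congrFun (congrArg (fun w : StdSpace F k 1 => w.2.2) hu) i
    · have := congrFun (congrArg (fun w : StdSpace F k 1 => w.2.1) hu) (Fin.rev i)
      simpa [f, hc0] using this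
  have hdim : Module.finrank F (Fin e → F) = Module.finrank F (StdSpace F k 1) := by
    simp only [Module.finrank_prod, Module.finrank_fin_fun]
    omega
  refine hB.transport (LinearEquiv.ofBijective f ⟨hf, (LinearMap.injective_iff_surjective_of_finrank_eq_finrank
    hdim).mp hf⟩) (fun u v => ?_)
  change stdForm k ![α] (f u) (f v) = B u v
  simp only [stdForm_apply, hBapp, revPair_apply, Fin.sum_univ_one,
    Matrix.cons_val_fin_one]
  rw [Fin.sum_univ_add, Fin.sum_univ_add]
  simp only [signMap, LinearMap.coe_mk, AddHom.coe_mk, f, Fin.val_castAdd, Fin.val_natAdd, Fin.sum_univ_one,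
    Fin.val_eq_zero, add_zero]
  have r1 : ∀ i : Fin k, Fin.rev (Fin.castAdd k (Fin.castAdd 1 i)) = Fin.natAdd (k + 1) (Fin.rev i) := by
    intro i
    apply Fin.ext
    simp only [Fin.val_rev, Fin.val_castAdd, Fin.val_natAdd]
    omega
  have r2 : ∀ i : Fin 1, Fin.rev (Fin.castAdd k (Fin.natAdd k i)) = Fin.castAdd k (Fin.natAdd k i) := by
    intro i
    apply Fin.ext
    simp only [Fin.val_rev, Fin.val_castAdd, Fin.val_natAdd]
    omega
  have r3 : ∀ i : Fin k, Fin.rev (Fin.natAdd (k + 1) i) = Fin.castAdd k (Fin.castAdd 1 (Fin.rev i)) := by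
    intro i
    apply Fin.ext
    simp only [Fin.val_rev, Fin.val_castAdd, Fin.val_natAdd]
    omega
  simp only [r1, r2, r3, mul_add, Finset.mul_sum]
  rw [← Equiv.sum_comp Fin.revPerm
    (fun i : Fin k => c * ((-1) ^ (k + 1 + (i : ℕ)) * u (Fin.natAdd (k + 1) i) *
      v (Fin.castAdd k (Fin.castAdd 1 (Fin.rev i)))))]
  have hsign : ∀ i : Fin k, (-1 : F) ^ (k + 1 + ((Fin.revPerm i : Fin k) : ℕ)) = (-1) ^ (i : ℕ) := by
    intro i
    have : (i : ℕ) + 2 * ((Fin.rev i : Fin k) : ℕ) + 2 = k + 1 + ((Fin.rev i : Fin k) : ℕ) := by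
      have := i.2
      rw [Fin.val_rev]
      omega
    rw [Fin.revPerm_apply, ← this, add_assoc, pow_add,
      show 2 * ((Fin.rev i : Fin k) : ℕ) + 2 = 2 * (((Fin.rev i : Fin k) : ℕ) + 1) by ring, pow_mul]
    simp
  simp only [Fin.revPerm_apply] at hsign ⊢
  simp only [hsign, Fin.rev_rev]
  have hmid : c * (-1) ^ k = 2 * α := by
    rw [hc, mul_assoc, ← mul_pow]
    simp
  have e1 : ∀ x : Fin k, u (Fin.castAdd k (Fin.castAdd 1 x)) *
      (c * (-1) ^ (x : ℕ) * v (Fin.natAdd (k + 1) (Fin.rev x))) =
      c * ((-1) ^ (x : ℕ) * u (Fin.castAdd k (Fin.castAdd 1 x)) * v (Fin.natAdd (k + 1) (Fin.rev x))) :=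
    fun x => by ring
  have e2 : ∀ x : Fin k, c * (-1) ^ (x : ℕ) * u (Fin.natAdd (k + 1) (Fin.rev x)) *
      v (Fin.castAdd k (Fin.castAdd 1 x)) =
      c * ((-1) ^ (x : ℕ) * u (Fin.natAdd (k + 1) (Fin.rev x)) * v (Fin.castAdd k (Fin.castAdd 1 x))) :=
    fun x => by ring
  simp only [e1, e2, ← hmid]
  ring

end Cfsg.Agent.Lib.OrthUnipotent
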