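import Mathlib
import Cfsg.Agent.Lib.OrthUnipotent.Realise

/-!
Gluing the basic pieces: every admissible partition is realised in the model space with any non-zero line
coefficients, and pairs of lines `1, -1` can be absorbed into hyperbolic planes.
-/
set_option autoImplicit false

namespace Cfsg.Agent.Lib.OrthUnipotent

variable {F : Type*} [Field F]

/-- concatenation of coordinates. -/
def glueMap (M k s t : ℕ) : (StdSpace F M s × StdSpace F k t) ≃ₗ[F] StdSpace F (M + k) (s + t) where
  toFun u := (Fin.append u.1.1 u.2.1, Fin.append u.1.2.1 u.2.2.1, Fin.append u.1.2.2 u.2.2.2)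
  map_add' u v := by
    refine Prod.ext ?_ (Prod.ext ?_ ?_) <;>
      (funext i; refine Fin.addCases (fun i => ?_) (fun i => ?_) i <;> simp)
  map_smul' c u := by
    refine Prod.ext ?_ (Prod.ext ?_ ?_) <;>
      (funext i; refine Fin.addCases (fun i => ?_) (fun i => ?_) i <;> simp)
  invFun w := ((fun i => w.1 (Fin.castAdd k i), fun i => w.2.1 (Fin.castAdd k i), fun i => w.2.2 (Fin.castAdd t i)),
    (fun i => w.1 (Fin.natAdd M i), fun i => w.2.1 (Fin.natAdd M i), fun i => w.2.2 (Fin.natAdd s i)))
  left_inv u := by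
    refine Prod.ext (Prod.ext ?_ (Prod.ext ?_ ?_)) (Prod.ext ?_ (Prod.ext ?_ ?_)) <;> (funext i; simp)
  right_inv w := by
    refine Prod.ext ?_ (Prod.ext ?_ ?_) <;> (funext i; refine Fin.addCases (fun i => ?_) (fun i => ?_) i <;> simp)

lemma stdForm_glueMap {M k s t : ℕ} (α : Fin s → F) (β : Fin t → F) (u v : StdSpace F M s × StdSpace F k t) :
    stdForm (M + k) (Fin.append α β) (glueMap M k s t u) (glueMap M k s t v) =
      stdForm M α u.1 v.1 + stdForm k β u.2 v.2 := by
  simp only [stdForm_apply, glueMap, LinearEquiv.coe_mk, LinearMap.coe_mk, AddHom.coe_mk, Fin.sum_univ_add,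
    Fin.append_left, Fin.append_right]
  ring

lemma IsRealised.glue {M k s t : ℕ} {α : Fin s → F} {β : Fin t → F} {μ ν : Multiset ℕ}
    (h : IsRealised (stdForm M α) μ) (h' : IsRealised (stdForm k β) ν) :
    IsRealised (stdForm (M + k) (Fin.append α β)) (μ + ν) := by
  let B'' : LinearMap.BilinForm F (StdSpace F M s × StdSpace F k t) :=
    (stdForm M α).compl₁₂ (LinearMap.fst F _ _) (LinearMap.fst F _ _) +
      (stdForm k β).compl₁₂ (LinearMap.snd F _ _) (LinearMap.snd F _ _)
  exact (h.prod h' (B'' := B'') (fun _ _ => rfl)).transport (glueMap M k s t)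
    (fun u v => stdForm_glueMap α β u v)

lemma append_castAdd_natAdd' {s t : ℕ} (α : Fin (s + t) → F) :
    Fin.append (fun i => α (Fin.castAdd t i)) (fun i => α (Fin.natAdd s i)) = α := by
  funext i
  refine Fin.addCases (fun i => ?_) (fun i => ?_) i <;> simp

/-- The linear bijection absorbing one pair of lines with coefficients `1, -1` into a hyperbolic plane. -/
lemma isRealised_absorb {M s : ℕ} (β : Fin s → F) (h2 : (2 : F) ≠ 0) {μ : Multiset ℕ}
    (h : IsRealised (stdForm M (Fin.append β (![1, -1] : Fin 2 → F))) μ) :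
    IsRealised (stdForm (M + 1) β) μ := by
  let f : StdSpace F M (s + 2) →ₗ[F] StdSpace F (M + 1) s :=
    { toFun := fun u => (Fin.append u.1 ![u.2.2 (Fin.natAdd s 0) - u.2.2 (Fin.natAdd s 1)],
        Fin.append u.2.1 ![u.2.2 (Fin.natAdd s 0) + u.2.2 (Fin.natAdd s 1)],
        fun i => u.2.2 (Fin.castAdd 2 i))
      map_add' := fun u v => by
        refine Prod.ext ?_ (Prod.ext ?_ rfl) <;>
          (funext i; refine Fin.addCases (fun i => ?_) (fun i => ?_) i <;>
            simp [Matrix.cons_val_fin_one] <;> ring)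
      map_smul' := fun c u => by
        refine Prod.ext ?_ (Prod.ext ?_ rfl) <;>
          (funext i; refine Fin.addCases (fun i => ?_) (fun i => ?_) i <;>
            simp [Matrix.cons_val_fin_one] <;> ring) }
  have hf : Function.Injective f := by
    rw [← LinearMap.ker_eq_bot, eq_bot_iff]
    intro u hu
    rw [LinearMap.mem_ker] at hu
    rw [Submodule.mem_bot]
    have h1 := congrArg Prod.fst hu
    have h2' := congrArg (fun w : StdSpace F (M + 1) s => w.2.1) hu
    have h3 := congrArg (fun w : StdSpace F (M + 1) s => w.2.2) hu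
    simp only [f, LinearMap.coe_mk, AddHom.coe_mk, Prod.fst_zero, Prod.snd_zero] at h1 h2' h3
    have a1 := congrFun h1 (Fin.natAdd M 0)
    have a2 := congrFun h2' (Fin.natAdd M 0)
    rw [Fin.append_right] at a1 a2
    simp only [Matrix.cons_val_zero, Pi.zero_apply] at a1 a2
    refine Prod.ext ?_ (Prod.ext ?_ ?_) <;> funext i
    · have := congrFun h1 (Fin.castAdd 1 i)
      rwa [Fin.append_left] at this
    · have := congrFun h2' (Fin.castAdd 1 i)
      rwa [Fin.append_left] at this
    · refine Fin.addCases (fun i => ?_) (fun i => ?_) i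
      · exact congrFun h3 i
      · fin_cases i
        · change u.2.2 (Fin.natAdd s 0) = 0
          have : (2 : F) * u.2.2 (Fin.natAdd s 0) = 0 := by linear_combination a1 + a2
          exact (mul_eq_zero.mp this).resolve_left h2
        · change u.2.2 (Fin.natAdd s 1) = 0
          have : (2 : F) * u.2.2 (Fin.natAdd s 1) = 0 := by linear_combination a2 - a1
          exact (mul_eq_zero.mp this).resolve_left h2
  have hdim : Module.finrank F (StdSpace F M (s + 2)) = Module.finrank F (StdSpace F (M + 1) s) := by
    simp only [Module.finrank_prod, Module.finrank_fin_fun]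
    omega
  refine h.transport (LinearEquiv.ofBijective f
    ⟨hf, (LinearMap.injective_iff_surjective_of_finrank_eq_finrank hdim).mp hf⟩) (fun u v => ?_)
  change stdForm (M + 1) β (f u) (f v) = _
  simp only [stdForm_apply, f, LinearMap.coe_mk, AddHom.coe_mk, Fin.sum_univ_add, Fin.sum_univ_one,
    Fin.sum_univ_two, Fin.append_left, Fin.append_right, Matrix.cons_val_fin_one, Matrix.cons_val_zero,
    Matrix.cons_val_one]
  ring

/-- Absorbing `r` pairs of lines: some coefficient vector reduces to the tail `β`. -/
lemma exists_absorb (h2 : (2 : F) ≠ 0) (μ : Multiset ℕ) {t : ℕ} (β : Fin t → F) (hβ : ∀ i, β i ≠ 0) (r : ℕ) :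
    ∃ α : Fin (t + 2 * r) → F, (∀ i, α i ≠ 0) ∧
      ∀ M, IsRealised (stdForm M α) μ → IsRealised (stdForm (M + r) β) μ := by
  induction r with
  | zero => exact ⟨β, hβ, fun M h => h⟩
  | succ r ih =>
    obtain ⟨α, hα, hM⟩ := ih
    let α' : Fin (t + 2 * r + 2) → F := Fin.append α (![1, -1] : Fin 2 → F)
    refine ⟨α', (show ∀ i : Fin (t + 2 * r + 2), α' i ≠ 0 from fun i => ?_), fun M h => ?_⟩
    · simp only [α']
      refine Fin.addCases (fun i => ?_) (fun i => ?_) i
      · rw [Fin.append_left]; exact hα i
      · rw [Fin.append_right]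
        fin_cases i <;> simp
    · have := hM (M + 1) (isRealised_absorb α h2 h)
      rwa [show M + (r + 1) = M + 1 + r by omega]

/-- Every admissible partition is realised. -/
theorem exists_realisation (h2 : (2 : F) ≠ 0) (μ : Multiset ℕ) (hpos : ∀ e ∈ μ, 0 < e)
    (heven : ∀ e : ℕ, Even e → Even (μ.count e)) :
    ∃ M s : ℕ, μ.sum = 2 * M + s ∧ (∀ e ∈ μ, Odd e → 0 < s) ∧
      ∀ α : Fin s → F, (∀ i, α i ≠ 0) → IsRealised (stdForm M α) μ := by
  induction μ using Multiset.strongInductionOn with
  | _ μ ih =>
    rcases μ.empty_or_exists_mem with rfl | ⟨e, he⟩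
    · refine ⟨0, 0, rfl, by simp, fun α _ => ?_⟩
      have hz : ∀ x : StdSpace F 0 0, x = 0 := fun x =>
        Prod.ext (funext fun i => i.elim0) (Prod.ext (funext fun i => i.elim0) (funext fun i => i.elim0))
      refine ⟨0, 1, by simp, by simp, by simp, by simp, fun j => ?_⟩
      have hbot : LinearMap.range ((0 : Module.End F (StdSpace F 0 0)) ^ j) = ⊥ :=
        eq_bot_iff.mpr (fun x _ => (Submodule.mem_bot _).mpr (hz x))
      rw [hbot, finrank_bot]
      rfl
    obtain ⟨μ', rfl⟩ := Multiset.exists_cons_of_mem he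
    rcases Nat.even_or_odd e with hev | hod
    · have hc := heven e hev
      rw [Multiset.count_cons_self] at hc
      have hmem : e ∈ μ' := by
        rw [← Multiset.count_pos]
        obtain ⟨k, hk⟩ := hc
        omega
      obtain ⟨μ'', rfl⟩ := Multiset.exists_cons_of_mem hmem
      have hlt : μ'' < e ::ₘ e ::ₘ μ'' := lt_trans (Multiset.lt_cons_self _ _) (Multiset.lt_cons_self _ _)
      have heven' : ∀ e' : ℕ, Even e' → Even (μ''.count e') := by
        intro e' he'
        have := heven e' he'
        by_cases h : e' = e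
        · subst h
          rw [Multiset.count_cons_self, Multiset.count_cons_self] at this
          obtain ⟨j, hj⟩ := this
          exact ⟨j - 1, by omega⟩
        · rwa [Multiset.count_cons_of_ne h, Multiset.count_cons_of_ne h] at this
      obtain ⟨M, s, hsum, hodd, hreal⟩ := ih μ'' hlt
        (fun x hx => hpos x (Multiset.mem_cons_of_mem (Multiset.mem_cons_of_mem hx))) heven'
      refine ⟨M + e, s + 0, ?_, fun x hx hxo => ?_, fun α hα => ?_⟩
      · simp only [Multiset.sum_cons, hsum]; omega
      · rcases Multiset.mem_cons.mp hx with rfl | hx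
        · exact absurd hev (Nat.not_even_iff_odd.mpr hxo)
        rcases Multiset.mem_cons.mp hx with rfl | hx
        · exact absurd hev (Nat.not_even_iff_odd.mpr hxo)
        exact hodd x hx hxo
      · have h := (hreal (fun i => α (Fin.castAdd 0 i)) (fun i => hα _)).glue
          (isRealised_pair (F := F) e (hpos e he))
        have happ : Fin.append (fun i => α (Fin.castAdd 0 i)) (![] : Fin 0 → F) = α := by
          funext i
          refine Fin.addCases (fun i => ?_) (fun i => i.elim0) i
          rw [Fin.append_left]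
        rw [happ] at h
        have hμ : μ'' + ({e, e} : Multiset ℕ) = e ::ₘ e ::ₘ μ'' := by
          rw [add_comm, Multiset.insert_eq_cons, Multiset.cons_add, Multiset.singleton_add]
        rwa [hμ] at h
    · obtain ⟨k, rfl⟩ := hod
      have heven' : ∀ e' : ℕ, Even e' → Even (μ'.count e') := by
        intro e' he'
        have := heven e' he'
        rwa [Multiset.count_cons_of_ne] at this
        rintro rfl
        exact absurd he' (Nat.not_even_iff_odd.mpr ⟨k, rfl⟩)
      obtain ⟨M, s, hsum, hodd, hreal⟩ := ih μ' (Multiset.lt_cons_self _ _)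
        (fun x hx => hpos x (Multiset.mem_cons_of_mem hx)) heven'
      refine ⟨M + k, s + 1, ?_, fun _ _ _ => Nat.succ_pos _, fun α hα => ?_⟩
      · simp only [Multiset.sum_cons, hsum]; omega
      · have h := (hreal (fun i => α (Fin.castAdd 1 i)) (fun i => hα _)).glue
          (isRealised_single k (α (Fin.natAdd s 0)) (hα _) h2)
        have happ : Fin.append (fun i => α (Fin.castAdd 1 i)) ![α (Fin.natAdd s 0)] = α := by
          funext i
          refine Fin.addCases (fun i => ?_) (fun i => ?_) i
          · rw [Fin.append_left]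
          · rw [Fin.append_right, Subsingleton.elim i 0]
            rfl
        rw [happ] at h
        rw [add_comm μ', Multiset.singleton_add, show k + 1 + k = 2 * k + 1 by omega] at h
        exact h

/-- The model space with prescribed tail coefficients carries a map of type `μ`. -/
theorem isRealised_of_tail (h2 : (2 : F) ≠ 0) (μ : Multiset ℕ) (hpos : ∀ e ∈ μ, 0 < e)
    (heven : ∀ e : ℕ, Even e → Even (μ.count e)) {N t : ℕ} (β : Fin t → F) (hβ : ∀ i, β i ≠ 0)
    (hsum : μ.sum = 2 * N + t) (ht : t = 0 ∨ t = 1 ∨ (t = 2 ∧ ∃ e ∈ μ, Odd e)) :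
    IsRealised (stdForm N β) μ := by
  obtain ⟨M, s, hs, hodd, hreal⟩ := exists_realisation h2 μ hpos heven
  obtain ⟨r, hr⟩ : ∃ r, s = t + 2 * r := by
    rcases ht with rfl | rfl | ⟨rfl, e, he, heo⟩
    · exact ⟨s / 2, by omega⟩
    · exact ⟨s / 2, by omega⟩
    · have := hodd e he heo
      exact ⟨(s - 2) / 2, by omega⟩
  subst hr
  obtain ⟨α, hα, hM⟩ := exists_absorb h2 μ β hβ r
  have h := hM M (hreal α hα)
  rwa [show N = M + r by omega]

end Cfsg.Agent.Lib.OrthUnipotent
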