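import Mathlib

/-! Elementary facts about the multisets used as Jordan types. -/
set_option autoImplicit false

namespace Cfsg.Agent.Lib.OrthUnipotent

lemma sum_eq_count_add (s : Multiset ℕ) (h : ∀ e ∈ s, e = 1 ∨ e = 2 ∨ e = 3) :
    s.sum = s.count 1 + 2 * s.count 2 + 3 * s.count 3 := by
  induction s using Multiset.induction with
  | empty => simp
  | cons a s ih =>
    have := ih (fun e he => h e (Multiset.mem_cons_of_mem he))
    rcases h a (Multiset.mem_cons_self a s) with rfl | rfl | rfl <;>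
      simp [Multiset.count_cons, Multiset.sum_cons, this] <;> omega

/-- all parts equal to one. -/
lemma subPartition_of_ones (μ : Multiset ℕ) (h : ∀ e ∈ μ, e = 1) (m : ℕ) (hm : m ≤ μ.sum) :
    ∃ ν : Multiset ℕ, ν ≤ μ ∧ ν.sum = m ∧ ∀ e : ℕ, Even e → Even (ν.count e) := by
  have hμ : μ = Multiset.replicate (Multiset.card μ) 1 := Multiset.eq_replicate.mpr ⟨rfl, h⟩
  have hc : μ.sum = Multiset.card μ := by
    conv_lhs => rw [hμ]
    simp
  refine ⟨Multiset.replicate m 1, ?_, by simp, fun e he => ?_⟩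
  · rw [hμ]
    exact (Multiset.replicate_le_replicate 1).mpr (by omega)
  · rw [Multiset.count_replicate, if_neg]
    · exact ⟨0, rfl⟩
    · rintro rfl
      exact absurd he (by decide)

lemma odd_char_of_odd_card (F : Type*) [Field F] [Fintype F] (p : ℕ) [Fact p.Prime] [CharP F p]
    (h : Odd (Fintype.card F)) : Odd p ∧ (2 : F) ≠ 0 := by
  have hp : Odd p := by
    obtain ⟨n, -, hn⟩ := FiniteField.card F p
    rw [hn] at h
    exact (Nat.odd_pow_iff n.ne_zero).mp h
  refine ⟨hp, fun h2 => ?_⟩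
  have hdvd : p ∣ 2 := (CharP.cast_eq_zero_iff F p 2).mp (by exact_mod_cast h2)
  rw [(Nat.prime_dvd_prime_iff_eq Fact.out Nat.prime_two).mp hdvd] at hp
  exact absurd hp (by decide)

end Cfsg.Agent.Lib.OrthUnipotent
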